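import Groth.Agent.TorsorPic.Coc
import Groth.Agent.Unirat.PicPower
import Groth.Agent.Rosenlicht.Product
import Groth.Agent.PicFam.Separated
import Groth.Agent.W7Cube.Pic
import Groth.Agent.SmoothRed.Scheme

/-!
# Descent of classes along torsors under connected linear groups
-/

set_option autoImplicit false
set_option linter.style.haveILetI false
set_option linter.unusedSectionVars false
set_option backward.isDefEq.respectTransparency false
set_option maxHeartbeats 1000000
set_option synthInstance.maxHeartbeats 400000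

universe u

open CategoryTheory CategoryTheory.Limits MonoidalCategory CartesianMonoidalCategory AlgebraicGeometry
open scoped CategoryTheory.MonObj
open PicGrp (pullHom)
open Groth.Agent.W7Cube (pullMul)

noncomputable section

namespace Groth.Agent.TorsorPic

variable {k : Type u} [Field k] [IsAlgClosed k]

theorem isPullback_whiskerLeft {A B : Over (Spec (CommRingCat.of k))} (G : Over (Spec (CommRingCat.of k)))
    (f : A ⟶ B) : IsPullback (G ◁ f).left (snd G A).left (snd G B).left f.left := by
  refine IsPullback.of_right (h₁₂ := (fst G B).left) (h₂₂ := B.hom) (v₁₃ := G.hom) ?_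
    (congrArg (fun m => m.left) (whiskerLeft_snd G f)) (IsPullback.of_hasPullback G.hom B.hom)
  rw [show f.left ≫ B.hom = A.hom from Over.w f, ← Over.comp_left, whiskerLeft_fst]
  exact IsPullback.of_hasPullback _ _

/-- A class on `Spec k` pulls back to the trivial class. -/
theorem pullCl_of_point {A : Scheme.{u}} (g : A ⟶ Spec (CommRingCat.of k)) {c : PicF.Cl (Spec (CommRingCat.of k))}
    (hc : PicF.IsInvertibleCl c) : PicF.pullCl g c = PicF.cl (Coh.structureModule A) := by
  obtain ⟨L, rfl, hL⟩ := hc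
  rw [show PicF.cl L = PicF.cl (Coh.structureModule (Spec (CommRingCat.of k))) from
    Quot.sound (DivDescMod.nonempty_trivial_of_openImmersion (𝟙 (Spec (CommRingCat.of k))) hL)]
  exact Quot.sound ⟨PicLoc.pullbackStructureIso g⟩

variable {G X Y : Over (Spec (CommRingCat.of k))} [GrpObj G] [IsAffine G.left] [Smooth G.hom]
  [ConnectedSpace ↥G.left]
  [IsIntegral X.left] [LocallyOfFiniteType X.hom] [QuasiCompact X.hom]
  (a : AlgGrp.Action G X) (f : X ⟶ Y) [LocallyOfFiniteType Y.hom] [Flat f.left] [Surjective f.left]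

theorem exists_descended_of_iso (hsq : IsPullback a.act.left (snd G X).left f.left f.left)
    {L : X.left.Modules} (hL : PicF.IsInvertible L)
    (θ : (Scheme.Modules.pullback a.act.left).obj L ≅ (Scheme.Modules.pullback (snd G X).left).obj L) :
    ∃ M : Y.left.Modules, PicF.IsInvertible M ∧ Nonempty ((Scheme.Modules.pullback f.left).obj M ≅ L) := by
  haveI : IsAffineHom G.hom := isAffineHom_of_isAffine _
  haveI : IrreducibleSpace G.left := SemiCont.irreducibleSpace_of_smooth G
  haveI : IsReduced G.left := SmoothRed.isReduced_of_smooth_scheme G.hom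
  haveI : IsIntegral G.left := isIntegral_of_irreducibleSpace_of_isReduced _
  haveI : IsLocallyNoetherian Y.left := LocallyOfFiniteType.isLocallyNoetherian Y.hom
  haveI : LocallyOfFiniteType (f.left ≫ Y.hom) := by rw [Over.w f]; infer_instance
  haveI : LocallyOfFiniteType f.left := locallyOfFiniteType_of_comp f.left Y.hom
  haveI : LocallyOfFinitePresentation f.left := inferInstance
  choose O t hOx ht using fun x => TMul.exists_isGen hL x
  have hO : ∀ x, ∃ i, x ∈ O i := fun x => ⟨x, hOx x⟩
  obtain ⟨th, hth⟩ := LBDesc.exists_isTh θ O t ht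
  obtain ⟨θ', th', hth', hdiag⟩ := exists_diag_normalised hsq θ hth ht hO
  refine LBDesc.exists_descended hsq θ' (fun V hV => DQCoh.pieces_of_lfp f.left V hV) (fun V => ?_) hL hO ht hth'
    (coc_of_rigid hsq θ' hth' ht hO hdiag fun ρ hρu h1 h2 => ?_)
  · haveI : Flat (f.left ∣_ V) := IsZariskiLocalAtTarget.restrict ‹_› V
    haveI : LocallyOfFinitePresentation (f.left ∣_ V) := IsZariskiLocalAtTarget.restrict ‹_› V
    haveI : Surjective (f.left ∣_ V) := IsZariskiLocalAtTarget.restrict ‹_› V
    infer_instance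
  -- units on the triple product
  let sq := isPullback_whiskerLeft G a.act
  have hφw : (G ◁ a.act).left ≫ (snd G X).left = (snd G (G ⊗ X)).left ≫ a.act.left := sq.w
  let φ : (G ⊗ (G ⊗ X)).left ≅ pullback (snd G X).left a.act.left := sq.isoPullback
  haveI hGX : IsIntegral (G ⊗ X).left := Rosenlicht.isIntegral_tensor G X
  haveI : LocallyOfFiniteType (G ⊗ X).hom :=
    inferInstanceAs (LocallyOfFiniteType (pullback.fst G.hom X.hom ≫ G.hom))
  let e : 𝟙_ (Over (Spec (CommRingCat.of k))) ⟶ G := η[G]
  obtain ⟨x⟩ := Rosenlicht.exists_point X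
  let y₀ : 𝟙_ (Over (Spec (CommRingCat.of k))) ⟶ G ⊗ X := CartesianMonoidalCategory.lift e x
  let j₁ : G ⊗ X ⟶ G ⊗ (G ⊗ X) := CartesianMonoidalCategory.lift (toUnit _ ≫ e) (𝟙 _)
  let j₂ : G ⊗ X ⟶ G ⊗ (G ⊗ X) :=
    CartesianMonoidalCategory.lift (fst G X) (CartesianMonoidalCategory.lift (toUnit _ ≫ e) (snd G X))
  have hone : ∀ {T : Over (Spec (CommRingCat.of k))} (p : T ⟶ X),
      CartesianMonoidalCategory.lift (toUnit T ≫ e) p ≫ a.act = p := fun {T} p => by
    rw [show CartesianMonoidalCategory.lift (toUnit T ≫ e) p = CartesianMonoidalCategory.lift (toUnit T) p ≫ (e ▷ X) from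
      (lift_whiskerRight _ _ _).symm, Category.assoc, a.one_act, lift_leftUnitor_hom]
  have hj₁ : j₁.left ≫ φ.hom = d₁ hsq := by
    refine pullback.hom_ext ?_ ?_
    · rw [Category.assoc, sq.isoPullback_hom_fst, d₁, pullback.lift_fst, ← Over.comp_left]
      refine hsq.hom_ext ?_ ?_
      · rw [IsPullback.lift_fst, ← Over.comp_left]
        refine congrArg Over.Hom.left ?_
        rw [lift_whiskerLeft, Category.id_comp, hone]
      · rw [IsPullback.lift_snd, ← Over.comp_left]
        refine congrArg Over.Hom.left ?_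
        rw [lift_whiskerLeft, lift_snd, Category.id_comp]
    · rw [Category.assoc, sq.isoPullback_hom_snd, d₁, pullback.lift_snd, ← Over.comp_left, lift_snd]
      rfl
  have hj₂ : j₂.left ≫ φ.hom = d₂ hsq := by
    refine pullback.hom_ext ?_ ?_
    · rw [Category.assoc, sq.isoPullback_hom_fst, d₂, pullback.lift_fst, ← Over.comp_left, lift_whiskerLeft, hone,
        lift_fst_snd]
      rfl
    · rw [Category.assoc, sq.isoPullback_hom_snd, d₂, pullback.lift_snd, ← Over.comp_left, lift_snd]
      refine hsq.hom_ext ?_ ?_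
      · rw [IsPullback.lift_fst, ← Over.comp_left, hone]
      · rw [IsPullback.lift_snd, ← Over.comp_left, lift_snd]
  let ρ' : Γ((G ⊗ (G ⊗ X)).left, ⊤) := φ.hom.appTop ρ
  have hρ'u : IsUnit ρ' := hρu.map _
  have g1 : j₁.left.appTop ρ' = 1 := by
    rw [← hj₁, Scheme.Hom.comp_appTop] at h1
    exact h1
  have g2 : j₂.left.appTop ρ' = 1 := by
    rw [← hj₂, Scheme.Hom.comp_appTop] at h2
    exact h2
  have key := Rosenlicht.unit_mul_const e y₀ ρ' hρ'u
  have k1 : (toUnit (G ⊗ (G ⊗ X)) ≫ CartesianMonoidalCategory.lift e y₀).left.appTop ρ' = 1 := by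
    rw [show toUnit (G ⊗ (G ⊗ X)) ≫ CartesianMonoidalCategory.lift e y₀ =
        (toUnit (G ⊗ (G ⊗ X)) ≫ y₀) ≫ j₁ by
      simp only [j₁, comp_lift, Category.comp_id]
      rw [← Category.assoc, toUnit_unique ((toUnit (G ⊗ (G ⊗ X)) ≫ y₀) ≫ toUnit (G ⊗ X)) (toUnit _)],
      Over.comp_left, Scheme.Hom.comp_appTop, CommRingCat.comp_apply, g1, map_one]
  have k2 : (CartesianMonoidalCategory.lift (fst G (G ⊗ X)) (toUnit _ ≫ y₀)).left.appTop ρ' = 1 := by
    rw [show CartesianMonoidalCategory.lift (fst G (G ⊗ X)) (toUnit _ ≫ y₀) =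
        CartesianMonoidalCategory.lift (fst G (G ⊗ X)) (toUnit _ ≫ x) ≫ j₂ by
      simp only [j₂, y₀, comp_lift, lift_fst, lift_snd]
      rw [← Category.assoc _ (toUnit (G ⊗ X)), toUnit_unique (_ ≫ toUnit (G ⊗ X)) (toUnit _)],
      Over.comp_left, Scheme.Hom.comp_appTop, CommRingCat.comp_apply, g2, map_one]
  have k3 : (CartesianMonoidalCategory.lift (toUnit _ ≫ e) (snd G (G ⊗ X))).left.appTop ρ' = 1 := by
    rw [show CartesianMonoidalCategory.lift (toUnit _ ≫ e) (snd G (G ⊗ X)) = snd G (G ⊗ X) ≫ j₁ by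
      simp only [j₁, comp_lift, Category.comp_id]
      rw [← Category.assoc, toUnit_unique (snd G (G ⊗ X) ≫ toUnit (G ⊗ X)) (toUnit _)],
      Over.comp_left, Scheme.Hom.comp_appTop, CommRingCat.comp_apply, g1, map_one]
  rw [k1, k2, k3, _root_.mul_one, _root_.one_mul] at key
  have hinj : Function.Injective φ.hom.appTop := (ConcreteCategory.bijective_of_isIso φ.hom.appTop).1
  exact hinj (key.trans (map_one _).symm)

/-- The orbit criterion for descent along a torsor. -/
theorem orbit_eq_one_iff (hX : Pi1.IsNormalScheme X.left)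
    (hsq : IsPullback a.act.left (snd G X).left f.left f.left)
    (x : 𝟙_ (Over (Spec (CommRingCat.of k))) ⟶ X)
    [PicGrp.Law G.left] [PicGrp.Law X.left] [PicGrp.Law Y.left] (c : PicLoc.PicSet X.left) :
    pullHom (a.orbitMap x).left (pullMul _) c = 1 ↔ c ∈ (pullHom f.left (pullMul _)).range := by
  letI := W7Cube.law (G ⊗ X).left
  letI := W7Cube.law (𝟙_ (Over (Spec (CommRingCat.of k)))).left
  constructor
  · intro hc
    obtain ⟨M, hM⟩ := Unirat.exists_eq_pull_fst hX a c
    let s : G ⟶ G ⊗ X := CartesianMonoidalCategory.lift (𝟙 G) (toUnit G ≫ x)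
    have hM1 : M = 1 := by
      have h1 := congrArg (pullHom s.left (pullMul _)) hM
      rw [map_mul] at h1
      have e1 : pullHom s.left (pullMul _) (pullHom a.act.left (pullMul _) c) = 1 := by
        rw [← hc]
        apply Subtype.ext
        show PicF.pullCl s.left (PicF.pullCl a.act.left c.1) = PicF.pullCl (a.orbitMap x).left c.1
        rw [← PicLoc.pullCl_comp]
        rfl
      have e2 : pullHom s.left (pullMul _) (pullHom (fst G X).left (pullMul _) M) = M := by
        apply Subtype.ext
        show PicF.pullCl s.left (PicF.pullCl (fst G X).left M.1) = M.1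
        rw [← PicLoc.pullCl_comp, ← Over.comp_left, lift_fst, Over.id_left, PicLoc.pullCl_id]
      have e3 : pullHom s.left (pullMul _) (pullHom (snd G X).left (pullMul _) c) = 1 := by
        apply Subtype.ext
        rw [PicGrp.one_val]
        show PicF.pullCl s.left (PicF.pullCl (snd G X).left c.1) = _
        rw [← PicLoc.pullCl_comp, ← Over.comp_left, lift_snd, Over.comp_left, PicLoc.pullCl_comp]
        exact pullCl_of_point _ (PicLoc.isInvertibleCl_pullCl x.left c.2)
      rw [e1, e2, e3, _root_.mul_one] at h1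
      exact h1.symm
    rw [hM1, map_one, _root_.one_mul] at hM
    obtain ⟨L, hL, rfl⟩ := PicGrp.exists_eq_cls c
    rw [PicGrp.pullHom_cls, PicGrp.pullHom_cls] at hM
    obtain ⟨θ⟩ := (PicGrp.cls_eq_cls_iff _ _).1 hM
    obtain ⟨N, hN, ⟨eN⟩⟩ := exists_descended_of_iso a f hsq hL θ
    exact ⟨PicGrp.cls N hN, (PicGrp.pullHom_cls _ _ N hN).trans ((PicGrp.cls_eq_cls_iff _ _).2 ⟨eN⟩)⟩
  · rintro ⟨d, rfl⟩
    apply Subtype.ext
    rw [PicGrp.one_val]
    show PicF.pullCl (a.orbitMap x).left (PicF.pullCl f.left d.1) = _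
    rw [← PicLoc.pullCl_comp, ← Over.comp_left]
    have h : a.orbitMap x ≫ f = toUnit G ≫ x ≫ f := by
      have hw : a.act ≫ f = snd G X ≫ f := Over.OverMorphism.ext hsq.w
      rw [AlgGrp.Action.orbitMap, Category.assoc, hw, lift_snd_assoc, Category.assoc]
    rw [h, Over.comp_left, PicLoc.pullCl_comp]
    exact pullCl_of_point _ (PicLoc.isInvertibleCl_pullCl (x ≫ f).left d.2)

end Groth.Agent.TorsorPic
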