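import Groth.Agent.LBDesc.Effective

/-!
# The cocycle condition from rigidity of units on the triple product
-/

set_option autoImplicit false
set_option backward.isDefEq.respectTransparency false
set_option backward.isDefEq.respectTransparency.types false
set_option linter.style.haveILetI false
set_option maxHeartbeats 1000000

universe u

open CategoryTheory CategoryTheory.Limits AlgebraicGeometry TopologicalSpace Opposite
open Groth.Agent.QC (res resO res_res res_smul resO_resO res_self app_res)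
open ProjMor (ev ev_res ev_resO eta eta_res eta_smul res_eta_smul)
open TMul (IsGen)

noncomputable section

namespace Groth.Agent.TorsorPic

open Groth.Agent.LBDesc

variable {Y Y' Z : Scheme.{u}} {g : Y' ⟶ Y} {p₁ p₂ : Z ⟶ Y'} (hZ : IsPullback p₁ p₂ g g)

/-- The first partial diagonal. -/
def d₁ : Z ⟶ pullback p₂ p₁ :=
  pullback.lift (hZ.lift p₁ p₁ rfl) (𝟙 Z) (by rw [hZ.lift_snd, Category.id_comp])

/-- The second partial diagonal. -/
def d₂ : Z ⟶ pullback p₂ p₁ :=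
  pullback.lift (𝟙 Z) (hZ.lift p₂ p₂ rfl) (by rw [hZ.lift_fst, Category.id_comp])

variable {L' : Y'.Modules} (θ : (Scheme.Modules.pullback p₁).obj L' ≅ (Scheme.Modules.pullback p₂).obj L')
  {ι : Type u} {O : ι → Y'.Opens} {t : ∀ i, Γ(L', O i)} {th : ∀ α β, Γ(Z, p₁ ⁻¹ᵁ O α ⊓ p₂ ⁻¹ᵁ O β)}
  (hth : IsTh θ O t th) (ht : ∀ i, IsGen (t i)) (hO : ∀ x : Y', ∃ i, x ∈ O i)

include hth ht hO in
/-- change the isomorphism so that it is the identity on the diagonal -/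
theorem exists_diag_normalised :
    ∃ (θ' : (Scheme.Modules.pullback p₁).obj L' ≅ (Scheme.Modules.pullback p₂).obj L') (th' : _),
      IsTh θ' O t th' ∧ ∀ {T : Scheme.{u}} (x : T ⟶ Y') (V : T.Opens) (α : ι) (hx : V ≤ x ⁻¹ᵁ O α),
        thp hZ th' x x rfl V α α hx hx = 1 := by
  let dd : ∀ (α : ι) (V : Y'.Opens), V ≤ O α → Γ(Y', V) := fun α V h =>
    thp hZ th (𝟙 Y') (𝟙 Y') rfl V α α (by simpa using h) (by simpa using h)
  have hindep : ∀ (α α' : ι) (V : Y'.Opens) (h : V ≤ O α) (h' : V ≤ O α'), dd α V h = dd α' V h' := by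
    intro α α' V h h'
    obtain ⟨c, hc⟩ := (ht α (O α' ⊓ O α) inf_le_right).2 (res L' inf_le_left (t α'))
    have hx : V ≤ (𝟙 Y' : Y' ⟶ Y') ⁻¹ᵁ O α := by simpa using h
    have hx' : V ≤ (𝟙 Y' : Y' ⟶ Y') ⁻¹ᵁ O α' := by simpa using h'
    simp only [dd]
    rw [← thp_right hZ θ hth ht (𝟙 Y') (𝟙 Y') rfl V α α α' hx hx hx' c hc.symm,
      thp_left hZ θ hth ht (𝟙 Y') (𝟙 Y') rfl V α α' α' hx hx' hx' c hc.symm]
    ring
  have hddU : ∀ α V h, IsUnit (dd α V h) := fun α V h => isUnit_thp hZ θ hth ht _ _ _ _ _ _ _ _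
  obtain ⟨w, hw, -⟩ := Y'.sheaf.existsUnique_gluing' O ⊤ (fun _ => homOfLE le_top)
    (fun z _ => Opens.mem_iSup.2 (hO z)) (fun α => ((hddU α (O α) le_rfl).unit⁻¹).val)
    (fun α α' => by
      have e : dd α (O α ⊓ O α') inf_le_left = dd α' (O α ⊓ O α') inf_le_right := hindep α α' (O α ⊓ O α') inf_le_left inf_le_right
      have r : ∀ (γ : ι) (h : O α ⊓ O α' ≤ O γ),
          resO _ h ((hddU γ (O γ) le_rfl).unit⁻¹).val * dd γ (O α ⊓ O α') h = 1 := fun γ h => by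
        rw [show dd γ (O α ⊓ O α') h = resO _ h (dd γ (O γ) le_rfl) from (resO_thp hZ th _ _ _ h _ _ _ _).symm,
          ← map_mul, IsUnit.val_inv_mul, map_one]
      show resO Y' inf_le_left _ = resO Y' inf_le_right _
      have r1 := r α inf_le_left
      have r2 := r α' inf_le_right
      rw [← e] at r2
      exact (hddU α (O α ⊓ O α') inf_le_left).mul_right_cancel (r1.trans r2.symm))
  have hwd : ∀ (α : ι) (V : Y'.Opens) (h : V ≤ O α), resO _ le_top w * dd α V h = 1 := by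
    intro α V h
    rw [← resO_resO h (le_top : O α ≤ ⊤) w, show resO _ (le_top : O α ≤ ⊤) w = _ from hw α,
      show dd α V h = resO _ h (dd α (O α) le_rfl) from (resO_thp hZ th _ _ _ h _ _ _ _).symm, ← map_mul,
      IsUnit.val_inv_mul, map_one]
  have hwu : IsUnit w := by
    refine Y'.toRingedSpace.isUnit_of_isUnit_germ _ _ fun z hz => ?_
    obtain ⟨α, hα⟩ := hO z
    have hu : IsUnit (resO _ (le_top : O α ≤ ⊤) w) := by
      rw [show resO _ (le_top : O α ≤ ⊤) w = _ from hw α]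
      exact Units.isUnit _
    have hu' := hu.map (Y'.presheaf.germ (O α) z hα).hom
    rwa [show (Y'.presheaf.germ (O α) z hα) (resO _ le_top w) = Y'.presheaf.germ ⊤ z hz w from
      TopCat.Presheaf.germ_res_apply _ _ _ _ _] at hu'
  let lam : Γ(Z, ⊤) := p₂.appTop w
  haveI := isIso_smulMor ((Scheme.Modules.pullback p₂).obj L') (r := lam) (hwu.map _)
  refine ⟨θ ≪≫ asIso (smulMor _ lam), fun α β => resO Z le_top lam * th α β, fun α β => ?_, ?_⟩
  · change res _ _ ((smulMor _ lam).app _ (θ.hom.app _ (eta p₁ L' (O α) (t α)))) = _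
    rw [smulMor_app, res_smul, resO_resO, hth α β, mul_smul]
  · intro T x V α hx
    have e0 := congrArg (ev x (O α) V hx) (hwd α (O α) le_rfl)
    simp only [dd, map_mul, map_one, ev_thp, ev_resO] at e0
    rw [thp_congr hZ th (Category.comp_id x) (Category.comp_id x) _ rfl V α α _ _ hx hx] at e0
    refine Eq.trans ?_ e0
    rw [thp, map_mul, ev_resO]
    refine congrArg₂ (· * ·) ?_ ?_
    · rw [show lam = ev p₂ ⊤ ⊤ le_top w by simp [lam, ProjMor.ev, Scheme.Hom.appTop, Scheme.Hom.app_eq_appLE], ev_comp]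
      exact ev_congr (hZ.lift_snd _ _ _) _ _ _
    · rfl

include hth ht hO in
/-- **cocycle condition**: rigidity of units on the triple product -/
theorem coc_of_rigid
    (hdiag : ∀ {T : Scheme.{u}} (x : T ⟶ Y') (V : T.Opens) (α : ι) (hx : V ≤ x ⁻¹ᵁ O α),
        thp hZ th x x rfl V α α hx hx = 1)
    (hrig : ∀ ρ : Γ(pullback p₂ p₁, ⊤), IsUnit ρ → (d₁ hZ).appTop ρ = 1 → (d₂ hZ).appTop ρ = 1 → ρ = 1) :
    Coc hZ th := by
  intro W x y z hxy hyz V α β γ hx hy hz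
  let P := pullback p₂ p₁
  let X₁ : P ⟶ Y' := pullback.fst _ _ ≫ p₁
  let X₂ : P ⟶ Y' := pullback.fst _ _ ≫ p₂
  let X₃ : P ⟶ Y' := pullback.snd _ _ ≫ p₂
  have h12 : X₁ ≫ g = X₂ ≫ g := by simp only [X₁, X₂, Category.assoc, hZ.w]
  have h23 : X₂ ≫ g = X₃ ≫ g := by
    simp only [X₂, X₃, Category.assoc]
    rw [pullback.condition_assoc, hZ.w]
  have h13 : X₁ ≫ g = X₃ ≫ g := h12.trans h23
  let N : ι × ι × ι → P.Opens := fun q => X₁ ⁻¹ᵁ O q.1 ⊓ X₂ ⁻¹ᵁ O q.2.1 ⊓ X₃ ⁻¹ᵁ O q.2.2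
  have hN : ∀ p, ∃ q, p ∈ N q := fun p => by
    obtain ⟨a1, ha1⟩ := hO (X₁.base p)
    obtain ⟨a2, ha2⟩ := hO (X₂.base p)
    obtain ⟨a3, ha3⟩ := hO (X₃.base p)
    exact ⟨(a1, a2, a3), ⟨ha1, ha2⟩, ha3⟩
  let n12 : ∀ (V : P.Opens) (q : ι × ι × ι), V ≤ N q → Γ(P, V) := fun V q h =>
    thp hZ th X₁ X₂ h12 V q.1 q.2.1 (h.trans (inf_le_left.trans inf_le_left)) (h.trans (inf_le_left.trans inf_le_right)) *
      thp hZ th X₂ X₃ h23 V q.2.1 q.2.2 (h.trans (inf_le_left.trans inf_le_right)) (h.trans inf_le_right)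
  let n13 : ∀ (V : P.Opens) (q : ι × ι × ι), V ≤ N q → Γ(P, V) := fun V q h =>
    thp hZ th X₁ X₃ h13 V q.1 q.2.2 (h.trans (inf_le_left.trans inf_le_left)) (h.trans inf_le_right)
  have h12u : ∀ V q h, IsUnit (n12 V q h) := fun V q h =>
    (isUnit_thp hZ θ hth ht _ _ _ _ _ _ _ _).mul (isUnit_thp hZ θ hth ht _ _ _ _ _ _ _ _)
  have h13u : ∀ V q h, IsUnit (n13 V q h) := fun V q h => isUnit_thp hZ θ hth ht _ _ _ _ _ _ _ _
  have key : ∀ (V : P.Opens) (q q' : ι × ι × ι) (h : V ≤ N q) (h' : V ≤ N q'),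
      n12 V q' h' * n13 V q h = n12 V q h * n13 V q' h' := by
    rintro V ⟨α, β, γ⟩ ⟨α', β', γ'⟩ h h'
    obtain ⟨c, hc⟩ := (ht α (O α' ⊓ O α) inf_le_right).2 (res L' inf_le_left (t α'))
    obtain ⟨d, hd⟩ := (ht β (O β' ⊓ O β) inf_le_right).2 (res L' inf_le_left (t β'))
    obtain ⟨f, hf⟩ := (ht γ (O γ' ⊓ O γ) inf_le_right).2 (res L' inf_le_left (t γ'))
    have x1 := h.trans (inf_le_left.trans inf_le_left)
    have x2 := h.trans (inf_le_left.trans inf_le_right)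
    have x3 := h.trans inf_le_right
    have y1 := h'.trans (inf_le_left.trans inf_le_left)
    have y2 := h'.trans (inf_le_left.trans inf_le_right)
    have y3 := h'.trans inf_le_right
    simp only [n12, n13]
    rw [thp_left hZ θ hth ht X₁ X₂ h12 V α α' β' x1 y1 y2 c hc.symm,
      thp_left hZ θ hth ht X₁ X₃ h13 V α α' γ' x1 y1 y3 c hc.symm,
      ← thp_right hZ θ hth ht X₁ X₂ h12 V α β β' x1 x2 y2 d hd.symm,
      thp_left hZ θ hth ht X₂ X₃ h23 V β β' γ' x2 y2 y3 d hd.symm,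
      ← thp_right hZ θ hth ht X₂ X₃ h23 V β γ γ' x2 x3 y3 f hf.symm,
      ← thp_right hZ θ hth ht X₁ X₃ h13 V α γ γ' x1 x3 y3 f hf.symm]
    ring
  have hres : ∀ (q : ι × ι × ι) {V V' : P.Opens} (i : V' ≤ V) (h : V ≤ N q),
      resO _ i (n12 V q h) = n12 V' q (i.trans h) ∧ resO _ i (n13 V q h) = n13 V' q (i.trans h) := fun q V V' i h =>
    ⟨by simp only [n12, map_mul, resO_thp], by simp only [n13, resO_thp]⟩
  obtain ⟨ρ, hρ, -⟩ := P.sheaf.existsUnique_gluing' N ⊤ (fun _ => homOfLE le_top) (fun p _ => Opens.mem_iSup.2 (hN p))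
    (fun q => n12 (N q) q le_rfl * ((h13u (N q) q le_rfl).unit⁻¹).val)
    (fun q q' => by
      suffices h : ∀ (V : P.Opens) (h1 : V ≤ N q) (h2 : V ≤ N q'),
          resO _ h1 (n12 (N q) q le_rfl * ((h13u (N q) q le_rfl).unit⁻¹).val) =
          resO _ h2 (n12 (N q') q' le_rfl * ((h13u (N q') q' le_rfl).unit⁻¹).val) from h _ inf_le_left inf_le_right
      intro V h1 h2
      have r1 : ∀ (p : ι × ι × ι) (h : V ≤ N p), resO _ h ((h13u (N p) p le_rfl).unit⁻¹).val * n13 V p h = 1 := fun p h => by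
        rw [show n13 V p h = resO _ h (n13 (N p) p le_rfl) from ((hres p h le_rfl).2).symm, ← map_mul, IsUnit.val_inv_mul, map_one]
      refine ((h13u V q h1).mul (h13u V q' h2)).mul_right_cancel ?_
      rw [map_mul (resO P h1) (n12 (N q) q le_rfl), map_mul (resO P h2) (n12 (N q') q' le_rfl), (hres q h1 le_rfl).1, (hres q' h2 le_rfl).1]
      have k := key V q q' h1 h2
      linear_combination (n12 V q h1 * n13 V q' h2) * r1 q h1 - (n12 V q' h2 * n13 V q h1) * r1 q' h2 - k)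
  have hρV : ∀ (q : ι × ι × ι) (V : P.Opens) (h : V ≤ N q), resO _ le_top ρ * n13 V q h = n12 V q h := by
    intro q V h
    rw [← resO_resO h (le_top : N q ≤ ⊤) ρ, show resO _ (le_top : N q ≤ ⊤) ρ = _ from hρ q, map_mul, (hres q h le_rfl).1,
      show n13 V q h = resO _ h (n13 (N q) q le_rfl) from ((hres q h le_rfl).2).symm, _root_.mul_assoc, ← map_mul,
      IsUnit.val_inv_mul, map_one, _root_.mul_one]
  have hρu : IsUnit ρ := by
    refine P.toRingedSpace.isUnit_of_isUnit_germ _ _ fun p hp => ?_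
    obtain ⟨q, hq⟩ := hN p
    have hu : IsUnit (resO _ (le_top : N q ≤ ⊤) ρ) := by
      rw [show resO _ (le_top : N q ≤ ⊤) ρ = _ from hρ q]
      exact (h12u _ q le_rfl).mul (Units.isUnit _)
    have hu' := hu.map (P.presheaf.germ (N q) p hq).hom
    rwa [show (P.presheaf.germ (N q) p hq) (resO _ le_top ρ) = P.presheaf.germ ⊤ p hp ρ from
      TopCat.Presheaf.germ_res_apply _ _ _ _ _] at hu'
  -- along the partial diagonals
  have hval : ∀ {T : Scheme.{u}} (k : T ⟶ P) (x' y' z' : T ⟶ Y') (ex : k ≫ X₁ = x') (ey : k ≫ X₂ = y')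
      (ez : k ≫ X₃ = z') (exy : x' ≫ g = y' ≫ g) (eyz : y' ≫ g = z' ≫ g) (V : T.Opens) (a b c : ι)
      (ha : V ≤ x' ⁻¹ᵁ O a) (hb : V ≤ y' ⁻¹ᵁ O b) (hc : V ≤ z' ⁻¹ᵁ O c),
      ev k ⊤ V le_top ρ * thp hZ th x' z' (exy.trans eyz) V a c ha hc =
        thp hZ th x' y' exy V a b ha hb * thp hZ th y' z' eyz V b c hb hc := by
    intro T k x' y' z' ex ey ez exy eyz V a b c ha hb hc
    subst ex ey ez
    have hV : V ≤ k ⁻¹ᵁ N (a, b, c) := by
      rw [Scheme.Hom.preimage_inf, Scheme.Hom.preimage_inf, ← Scheme.Hom.comp_preimage, ← Scheme.Hom.comp_preimage,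
        ← Scheme.Hom.comp_preimage]
      exact le_inf (le_inf ha hb) hc
    have e0 := congrArg (ev k (N (a, b, c)) V hV) (hρV (a, b, c) _ le_rfl)
    simp only [n12, n13, map_mul, ev_thp, ev_resO] at e0
    exact e0
  have hone : ∀ {T : Scheme.{u}} (k : T ⟶ P),
      (k ≫ X₁ = k ≫ X₂ ∨ k ≫ X₂ = k ≫ X₃) → k.appTop ρ = 1 := by
    intro T k hk
    have hkN : ∀ p, ∃ q, p ∈ k ⁻¹ᵁ N q := fun p => hN (k.base p)
    refine T.sheaf.eq_of_locally_eq' (fun q => k ⁻¹ᵁ N q) ⊤ (fun _ => homOfLE le_top)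
      (fun p _ => Opens.mem_iSup.2 (hkN p)) _ _ fun q => ?_
    change resO _ le_top (k.appTop ρ) = resO _ le_top (1 : Γ(T, ⊤))
    rw [show k.appTop ρ = ev k ⊤ ⊤ le_top ρ by simp [ProjMor.ev, Scheme.Hom.appTop, Scheme.Hom.app_eq_appLE],
      ev_res, map_one]
    have f1 : k ⁻¹ᵁ N q ≤ (k ≫ X₁) ⁻¹ᵁ O q.1 := k.preimage_mono (inf_le_left.trans inf_le_left)
    have f2 : k ⁻¹ᵁ N q ≤ (k ≫ X₂) ⁻¹ᵁ O q.2.1 := k.preimage_mono (inf_le_left.trans inf_le_right)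
    have f3 : k ⁻¹ᵁ N q ≤ (k ≫ X₃) ⁻¹ᵁ O q.2.2 := k.preimage_mono inf_le_right
    have exy : (k ≫ X₁) ≫ g = (k ≫ X₂) ≫ g := (Category.assoc _ _ _).trans ((congrArg (k ≫ ·) h12).trans (Category.assoc _ _ _).symm)
    have eyz : (k ≫ X₂) ≫ g = (k ≫ X₃) ≫ g := (Category.assoc _ _ _).trans ((congrArg (k ≫ ·) h23).trans (Category.assoc _ _ _).symm)
    refine (isUnit_thp hZ θ hth ht (k ≫ X₁) (k ≫ X₃) (exy.trans eyz) (k ⁻¹ᵁ N q) q.1 q.2.2 f1 f3).mul_right_cancel ?_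
    rw [_root_.one_mul]
    rcases hk with e | e
    · have f1' : k ⁻¹ᵁ N q ≤ (k ≫ X₂) ⁻¹ᵁ O q.1 := e ▸ f1
      rw [hval k _ _ _ rfl rfl rfl exy eyz _ q.1 q.1 q.2.2 f1 f1' f3,
        thp_congr hZ th e rfl exy rfl _ q.1 q.1 f1 f1' f1' f1', hdiag (k ≫ X₂) _ q.1 f1', _root_.one_mul]
      exact thp_congr hZ th e.symm rfl _ _ _ _ _ _ _ _ _
    · have f3' : k ⁻¹ᵁ N q ≤ (k ≫ X₂) ⁻¹ᵁ O q.2.2 := e ▸ f3
      rw [hval k _ _ _ rfl rfl rfl exy eyz _ q.1 q.2.2 q.2.2 f1 f3' f3,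
        thp_congr hZ th (rfl : k ≫ X₂ = k ≫ X₂) e.symm eyz rfl _ q.2.2 q.2.2 f3' f3 f3' f3',
        hdiag (k ≫ X₂) _ q.2.2 f3', _root_.mul_one]
      exact thp_congr hZ th rfl e _ _ _ _ _ _ _ _ _
  have e1 : (d₁ hZ).appTop ρ = 1 := hone _ (Or.inl (by
    simp only [X₁, X₂, d₁, pullback.lift_fst_assoc, hZ.lift_fst, hZ.lift_snd]))
  have e2 : (d₂ hZ).appTop ρ = 1 := hone _ (Or.inr (by
    simp only [X₂, X₃, d₂, pullback.lift_fst_assoc, pullback.lift_snd_assoc, hZ.lift_snd, Category.id_comp]))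
  have hρ1 : ρ = 1 := hrig ρ hρu e1 e2
  let k : W ⟶ P := pullback.lift (hZ.lift x y hxy) (hZ.lift y z hyz) (by rw [hZ.lift_snd, hZ.lift_fst])
  have h := hval k x y z (by simp [k, X₁]) (by simp [k, X₂]) (by simp [k, X₃]) hxy hyz V α β γ hx hy hz
  rw [hρ1, map_one, _root_.one_mul] at h
  exact h.symm

end Groth.Agent.TorsorPic
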